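import Groth.Prelude.Def_DerLim
import Mathlib.CategoryTheory.Abelian.GrothendieckAxioms.Basic
import Mathlib.CategoryTheory.Functor.OfSequence
import Mathlib.Algebra.Homology.ShortComplex.ExactFunctor
import Mathlib.Tactic.Abel

/-!
# `1 - shift` on countable sums
-/

set_option autoImplicit false
set_option linter.style.haveILetI false
set_option linter.unusedSectionVars false

universe v u

open CategoryTheory CategoryTheory.Limits

namespace Groth.Agent.H16Derived.Seq

variable {A : Type u} [Category.{v} A] [Abelian A]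
  [HasColimitsOfShape ℕ A] [HasExactColimitsOfShape ℕ A]

/-- Transition maps of a sequence. -/
abbrev step (F : ℕ ⥤ A) (n : ℕ) : F.obj n ⟶ F.obj (n + 1) := F.map (homOfLE (Nat.le_succ n))

variable (F : ℕ ⥤ A) [HasCoproduct F.obj]

/-- The partial sums. -/
noncomputable abbrev part (n : ℕ) : A := ∐ fun k : Fin n => F.obj k

/-- Summands of partial sums. -/
noncomputable abbrev ι' (n j : ℕ) (h : j < n) : F.obj j ⟶ part F n :=
  Sigma.ι (fun k : Fin n => F.obj k) ⟨j, h⟩

/-- Inclusion of partial sums. -/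
noncomputable def incl (n : ℕ) : part F n ⟶ part F (n + 1) :=
  Sigma.desc fun k => ι' F (n + 1) k (k.2.trans n.lt_succ_self)

/-- The finite `1 - shift`. -/
noncomputable def fin1 (n : ℕ) : part F n ⟶ part F (n + 1) :=
  Sigma.desc fun k => ι' F (n + 1) k (k.2.trans n.lt_succ_self) -
    step F k ≫ ι' F (n + 1) (k + 1) (Nat.succ_lt_succ k.2)

open Classical in
/-- Projections of partial sums. -/
noncomputable def pr (n : ℕ) (j : ℕ) : part F n ⟶ F.obj j :=
  Sigma.desc fun k => if h : (k : ℕ) = j then eqToHom (congrArg F.obj h) else 0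

lemma sum_pr (n : ℕ) :
    ∑ k : Fin n, pr F n k ≫ Sigma.ι (fun k : Fin n => F.obj k) k = 𝟙 (part F n) := by
  classical
  refine Sigma.hom_ext _ _ fun i => ?_
  rw [Preadditive.comp_sum, Category.comp_id, Finset.sum_eq_single i]
  · simp [pr]
  · intro b _ hb
    simp [pr, show ¬((i : ℕ) = (b : ℕ)) from fun h => hb (Fin.ext h).symm]
  · simp

lemma mono_fin1 (n : ℕ) : Mono (fin1 F n) := by
  refine Preadditive.mono_of_cancel_zero _ fun {W} x hx => ?_
  have h : ∀ j, j < n → x ≫ pr F n j = 0 := by
    intro j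
    induction j with
    | zero =>
      intro hj
      have e : fin1 F n ≫ pr F (n + 1) 0 = pr F n 0 := by
        refine Sigma.hom_ext _ _ fun k => ?_
        simp [fin1, pr]
      rw [← e, reassoc_of% hx, zero_comp]
    | succ j ih =>
      intro hj
      have e : fin1 F n ≫ pr F (n + 1) (j + 1) = pr F n (j + 1) - pr F n j ≫ step F j := by
        refine Sigma.hom_ext _ _ fun k => ?_
        simp only [fin1, pr, Sigma.ι_desc_assoc, Preadditive.sub_comp, Category.assoc, Sigma.ι_desc,
          Preadditive.comp_sub]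
        by_cases hk : (k : ℕ) = j
        · subst hk; simp [step]
        · simp [hk]
      have := congrArg (x ≫ ·) e
      rw [reassoc_of% hx, zero_comp, Preadditive.comp_sub, ← Category.assoc x (pr F n j), ih (by omega),
        zero_comp, sub_zero] at this
      exact this.symm
  calc x = x ≫ 𝟙 _ := (Category.comp_id x).symm
    _ = 0 := by
      rw [← sum_pr, Preadditive.comp_sum]
      exact Finset.sum_eq_zero fun k _ => by rw [← Category.assoc, h k k.2, zero_comp]

lemma incl_fin1 (n : ℕ) : incl F n ≫ fin1 F (n + 1) = fin1 F n ≫ incl F (n + 1) := by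
  refine Sigma.hom_ext _ _ fun k => ?_
  simp [incl, fin1]

/-- Partial sums, as a sequence. -/
noncomputable def partSeq : ℕ ⥤ A := Functor.ofSequence (incl F)

/-- Partial sums, shifted by one. -/
noncomputable def partSeq' : ℕ ⥤ A := Functor.ofSequence fun n => incl F (n + 1)

/-- The natural finite `1 - shift`. -/
noncomputable def fin1Seq : partSeq F ⟶ partSeq' F :=
  NatTrans.ofSequence (fun n => fin1 F n) fun n => by
    simp only [partSeq, partSeq', Functor.ofSequence_map_homOfLE_succ]
    exact incl_fin1 F n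

instance : Mono (fin1Seq F) :=
  haveI : ∀ n, Mono ((fin1Seq F).app n) := fun n => mono_fin1 F n
  NatTrans.mono_of_mono_app _

/-- Into the whole sum. -/
noncomputable def toSum (n : ℕ) : part F n ⟶ ∐ F.obj := Sigma.desc fun k => Sigma.ι F.obj k

lemma incl_toSum (n : ℕ) : incl F n ≫ toSum F (n + 1) = toSum F n := by
  refine Sigma.hom_ext _ _ fun k => ?_
  simp [incl, toSum]

/-- Cocone on partial sums. -/
noncomputable def sumCocone : Cocone (partSeq F) where
  pt := ∐ F.obj
  ι := NatTrans.ofSequence (fun n => toSum F n) fun n => by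
    simp only [partSeq, Functor.ofSequence_map_homOfLE_succ]
    exact (incl_toSum F n).trans (Category.comp_id _).symm

/-- Cocone on the shifted partial sums. -/
noncomputable def sumCocone' : Cocone (partSeq' F) where
  pt := ∐ F.obj
  ι := NatTrans.ofSequence (fun n => toSum F (n + 1)) fun n => by
    simp only [partSeq', Functor.ofSequence_map_homOfLE_succ]
    exact (incl_toSum F (n + 1)).trans (Category.comp_id _).symm

lemma ι_w (s : Cocone (partSeq F)) (n : ℕ) : incl F n ≫ s.ι.app (n + 1) = s.ι.app n := by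
  have h := s.w (homOfLE (Nat.le_succ n))
  simp only [partSeq, Functor.ofSequence_map_homOfLE_succ] at h
  exact h

lemma ι_stable (s : Cocone (partSeq F)) (j : ℕ) : ∀ n (h : j < n),
    Sigma.ι (fun k : Fin n => F.obj k) ⟨j, h⟩ ≫ s.ι.app n =
      Sigma.ι (fun k : Fin (j + 1) => F.obj k) ⟨j, j.lt_succ_self⟩ ≫ s.ι.app (j + 1) := by
  intro n
  induction n with
  | zero => intro h; omega
  | succ n ih =>
    intro h
    rcases Nat.lt_succ_iff_lt_or_eq.1 h with h' | rfl
    · rw [← ih h', ← ι_w F s n]
      simp [incl]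
    · rfl

/-- The partial sums exhaust. -/
noncomputable def isColimitSum : IsColimit (sumCocone F) where
  desc s := Sigma.desc fun j =>
    Sigma.ι (fun k : Fin (j + 1) => F.obj k) ⟨j, j.lt_succ_self⟩ ≫ s.ι.app (j + 1)
  fac s n := Sigma.hom_ext _ _ fun k => by
    show Sigma.ι _ k ≫ toSum F n ≫ _ = _
    simp only [toSum, Sigma.ι_desc_assoc, Sigma.ι_desc]
    exact (ι_stable F s k n k.2).symm
  uniq s m hm := Sigma.hom_ext _ _ fun j => by
    rw [Sigma.ι_desc, ← hm (j + 1)]
    refine Eq.trans ?_ (Category.assoc _ _ _)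
    refine congrArg (· ≫ m) ?_
    symm
    exact Sigma.ι_desc _ _

lemma ι_w' (s : Cocone (partSeq' F)) (n : ℕ) : incl F (n + 1) ≫ s.ι.app (n + 1) = s.ι.app n := by
  have h := s.w (homOfLE (Nat.le_succ n))
  simp only [partSeq', Functor.ofSequence_map_homOfLE_succ] at h
  exact h

lemma ι_stable' (s : Cocone (partSeq' F)) (j : ℕ) : ∀ n (h : j < n + 1),
    Sigma.ι (fun k : Fin (n + 1) => F.obj k) ⟨j, h⟩ ≫ s.ι.app n =
      Sigma.ι (fun k : Fin (j + 1) => F.obj k) ⟨j, j.lt_succ_self⟩ ≫ s.ι.app j := by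
  intro n
  induction n with
  | zero => intro h; obtain rfl : j = 0 := by omega
            rfl
  | succ n ih =>
    intro h
    rcases Nat.lt_succ_iff_lt_or_eq.1 h with h' | rfl
    · rw [← ih h', ← ι_w' F s n]
      simp [incl]
    · rfl

/-- The shifted partial sums exhaust. -/
noncomputable def isColimitSum' : IsColimit (sumCocone' F) where
  desc s := Sigma.desc fun j =>
    Sigma.ι (fun k : Fin (j + 1) => F.obj k) ⟨j, j.lt_succ_self⟩ ≫ s.ι.app j
  fac s n := Sigma.hom_ext _ _ fun k => by
    show Sigma.ι _ k ≫ toSum F (n + 1) ≫ _ = _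
    simp only [toSum, Sigma.ι_desc_assoc, Sigma.ι_desc]
    exact (ι_stable' F s k n k.2).symm
  uniq s m hm := Sigma.hom_ext _ _ fun j => by
    rw [Sigma.ι_desc, ← hm j]
    refine Eq.trans ?_ (Category.assoc _ _ _)
    refine congrArg (· ≫ m) ?_
    symm
    exact Sigma.ι_desc _ _

/-- `1 - shift` is a monomorphism. -/
theorem mono_one_sub_shift : Mono (𝟙 (∐ F.obj) - DerLim.shiftMap F.obj (step F)) := by
  let f := 𝟙 (∐ F.obj) - DerLim.shiftMap F.obj (step F)
  let e : colimit (partSeq F) ≅ ∐ F.obj := (colimit.isColimit (partSeq F)).coconePointUniqueUpToIso (isColimitSum F)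
  let e' : colimit (partSeq' F) ≅ ∐ F.obj := (colimit.isColimit (partSeq' F)).coconePointUniqueUpToIso (isColimitSum' F)
  have hm : Mono (colimMap (fin1Seq F)) :=
    inferInstanceAs (Mono ((colim : (ℕ ⥤ A) ⥤ A).map (fin1Seq F)))
  have hf : f = e.inv ≫ colimMap (fin1Seq F) ≫ e'.hom := by
    rw [Iso.eq_inv_comp]
    refine colimit.hom_ext fun n => ?_
    erw [reassoc_of% ((colimit.isColimit (partSeq F)).comp_coconePointUniqueUpToIso_hom
      (isColimitSum F) n), ι_colimMap_assoc]
    erw [(colimit.isColimit (partSeq' F)).comp_coconePointUniqueUpToIso_hom (isColimitSum' F) n]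
    show toSum F n ≫ f = fin1 F n ≫ toSum F (n + 1)
    refine Sigma.hom_ext _ _ fun k => ?_
    simp [f, toSum, fin1, DerLim.shiftMap, step]
  show Mono f
  rw [hf]
  haveI : Mono (colimMap (fin1Seq F) ≫ e'.hom) := @mono_comp _ _ _ _ _ _ hm e'.hom inferInstance
  exact mono_comp _ _

/-- The short exact sequence of a sequence. -/
theorem shortExact_one_sub_shift :
    ∃ w : (𝟙 (∐ F.obj) - DerLim.shiftMap F.obj (step F)) ≫
        Sigma.desc (fun n => colimit.ι F n) = 0,
      (ShortComplex.mk _ _ w).ShortExact := by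
  have w : (𝟙 (∐ F.obj) - DerLim.shiftMap F.obj (step F)) ≫
      Sigma.desc (fun n => colimit.ι F n) = 0 := by
    refine Sigma.hom_ext _ _ fun n => ?_
    simp [DerLim.shiftMap, step, colimit.w]
  have key : ∀ {T : A} (h : (∐ F.obj) ⟶ T), (𝟙 (∐ F.obj) - DerLim.shiftMap F.obj (step F)) ≫ h = 0 →
      ∀ n, step F n ≫ Sigma.ι F.obj (n + 1) ≫ h = Sigma.ι F.obj n ≫ h := fun {T} h hh n => by
    have := congrArg (Sigma.ι F.obj n ≫ ·) hh
    simp only [Preadditive.sub_comp, Category.id_comp, Preadditive.comp_sub, DerLim.shiftMap,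
      Sigma.ι_desc_assoc, Category.assoc, comp_zero, sub_eq_zero] at this
    exact this.symm
  let co : ∀ {T : A} (h : (∐ F.obj) ⟶ T), (𝟙 (∐ F.obj) - DerLim.shiftMap F.obj (step F)) ≫ h = 0 →
      Cocone F := fun {T} h hh =>
    { pt := T
      ι := NatTrans.ofSequence (fun n => Sigma.ι F.obj n ≫ h)
        fun n => (key h hh n).trans (Category.comp_id _).symm }
  haveI := mono_one_sub_shift F
  haveI : Epi (Sigma.desc fun n => colimit.ι F n : (∐ F.obj) ⟶ colimit F) :=
    ⟨fun g h hgh => colimit.hom_ext fun n => by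
      have := congrArg (Sigma.ι F.obj n ≫ ·) hgh
      simpa using this⟩
  refine ⟨w, { exact := ?_ }⟩
  exact ShortComplex.exact_of_g_is_cokernel _ (CokernelCofork.IsColimit.ofπ _ w
    (fun h hh => colimit.desc F (co h hh))
    (fun h hh => Sigma.hom_ext _ _ fun n => by simp [co])
    fun h hh m hm => colimit.hom_ext fun n => by
      have := congrArg (Sigma.ι F.obj n ≫ ·) hm
      simpa [co] using this)

end Groth.Agent.H16Derived.Seq
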